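import Groth.Agent.SSMod.K122.Plan2
import Groth.Agent.SSMod.K122.ValBase
import Groth.Agent.SSMod.K380.ValPt
import Groth.Agent.EGA43.K132.GeomRkOpen
import Groth.Agent.SSMod.K761.Ends
import Mathlib.RingTheory.Ideal.MinimalPrime.Localization
import Mathlib.AlgebraicGeometry.ValuativeCriterion

/-!
# Sections through closed points of fibres over valuation rings with algebraically closed fraction field

* `K777.Sect.exists_alg`: the ring form (`B` flat of finite type over the valuation ring `R`).
* `K777.Sect.exists_local_section`: the local scheme form.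
* `K777.Sect.exists_section`: `W ⟶ Spec V` proper and flat: every closed point of every fibre lies on a section.
* `K777.Sect.infinite_smooth`: a component of dimension one of a geometrically reduced fibre has infinitely many closed
  points in the smooth locus.
* `K777.Sect.main : K122.Plan2.Sections`.
-/

set_option autoImplicit false
universe u

open CategoryTheory CategoryTheory.Limits AlgebraicGeometry IsLocalRing TopologicalSpace

namespace K777.Sect

theorem exists_alg (R : Type u) [CommRing R] [IsDomain R] [ValuationRing R] [IsAlgClosed (FractionRing R)]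
    {B : Type u} [CommRing B] [Algebra R B] [Module.Flat R B] [Algebra.FiniteType R B] (Q : Ideal B) [hQm : Q.IsMaximal]
    (hQ : Q.comap (algebraMap R B) = maximalIdeal R) : ∃ φ : B →ₐ[R] R, (maximalIdeal R).comap φ = Q := by
  by_cases hR : maximalIdeal R = ⊥
  · have hf : IsField R := IsLocalRing.isField_iff_maximalIdeal_eq.2 hR
    let _ : Field R := hf.toField
    have hRa : IsAlgClosed R := IsAlgClosed.of_ringEquiv (FractionRing R) R
      (FractionRing.algEquiv R R).toRingEquiv
    let _ : Field (B ⧸ Q) := Ideal.Quotient.field Q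
    have h2 : Algebra.FiniteType R (B ⧸ Q) := inferInstance
    have h3 : Module.Finite R (B ⧸ Q) := finite_of_finite_type_of_isJacobsonRing _ _
    have h4 : Function.Bijective (algebraMap R (B ⧸ Q)) :=
      IsAlgClosed.algebraMap_bijective_of_isIntegral
    let e : R ≃ₐ[R] (B ⧸ Q) := AlgEquiv.ofBijective (Algebra.ofId _ _) h4
    refine ⟨(e.symm : _ →ₐ[R] R).comp (Ideal.Quotient.mkₐ R Q), ?_⟩
    ext b
    rw [Ideal.mem_comap, hR, Ideal.mem_bot]
    change e.symm (Ideal.Quotient.mk Q b) = 0 ↔ _
    rw [map_eq_zero_iff _ e.symm.injective, Ideal.Quotient.eq_zero_iff_mem]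
  · obtain ⟨q, hq, hqQ⟩ := Ideal.exists_minimalPrimes_le (J := Q) (bot_le (a := Q))
    have hqp : q.IsPrime := hq.1.1
    have hinj : Function.Injective (algebraMap R (B ⧸ q)) := by
      rw [injective_iff_map_eq_zero]
      intro r hr
      by_contra hr0
      have h1 : algebraMap R B r ∈ q := Ideal.Quotient.eq_zero_iff_mem.1 hr
      have h2 : algebraMap R B r ∈ nonZeroDivisors B := by
        rw [mem_nonZeroDivisors_iff_right]
        intro z hz
        have h3 : IsSMulRegular B r :=
          Module.Flat.isSMulRegular_of_nonZeroDivisors (mem_nonZeroDivisors_of_ne_zero hr0)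
        apply h3
        simp only [smul_zero]
        rw [Algebra.smul_def, mul_comm]
        exact hz
      exact notMem_nonZeroDivisors_of_mem_mem_minimalPrimes h1 hq h2
    have hQq : (Q.map (Ideal.Quotient.mk q)).IsMaximal :=
      Ideal.IsMaximal.map_of_surjective_of_ker_le Ideal.Quotient.mk_surjective (by rwa [Ideal.mk_ker])
    have hcm : (Q.map (Ideal.Quotient.mk q)).comap (Ideal.Quotient.mk q) = Q := by
      rw [Ideal.comap_map_of_surjective _ Ideal.Quotient.mk_surjective]
      refine sup_eq_left.2 ?_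
      have : (⊥ : Ideal (B ⧸ q)).comap (Ideal.Quotient.mk q) = q := Ideal.mk_ker
      rwa [this]
    obtain ⟨φ, -, hφ⟩ := K380.ValPt.exists_section_of_ne_bot hR hinj (Q.map (Ideal.Quotient.mk q)) (by
      rw [← hQ]
      conv_rhs => rw [← hcm, Ideal.comap_comap]
      rfl) 1 one_ne_zero
    refine ⟨φ.comp (Ideal.Quotient.mkₐ R q), ?_⟩
    have h1 : (maximalIdeal R).comap (φ.comp (Ideal.Quotient.mkₐ R q)) =
        ((maximalIdeal R).comap φ).comap (Ideal.Quotient.mk q) := rfl
    rw [h1, hφ, hcm]

theorem exists_local {A : CommRingCat.{u}} [IsDomain A] [ValuationRing A] [IsAlgClosed (FractionRing A)]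
    {P : Scheme.{u}} (f : P ⟶ Spec A) [Flat f] [LocallyOfFiniteType f] (w : P) (hw : IsClosed ({w} : Set P))
    (hf : f w = closedPoint A) : ∃ s : Spec A ⟶ P, s ≫ f = 𝟙 _ ∧ s (closedPoint A) = w := by
  obtain ⟨W, hW, hwW, -⟩ := exists_isAffineOpen_mem_and_subset (x := w) (U := (⊤ : P.Opens)) trivial
  let j := hW.fromSpec
  obtain ⟨φ, hφ⟩ := Spec.map_surjective (j ≫ f)
  have hft : φ.hom.FiniteType := (HasRingHomProperty.Spec_iff (P := @LocallyOfFiniteType)).1 (by rw [hφ]; infer_instance)
  have hfl : φ.hom.Flat := (HasRingHomProperty.Spec_iff (P := @Flat)).1 (by rw [hφ]; infer_instance)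
  algebraize [φ.hom]
  have hr : Set.range j = (W : Set P) := hW.range_fromSpec
  obtain ⟨Q, hQ⟩ : w ∈ Set.range j := hr ▸ hwW
  have hQc : IsClosed ({Q} : Set ↥(Spec Γ(P, W))) := by
    have h1 : ({Q} : Set ↥(Spec Γ(P, W))) = j ⁻¹' {w} := by
      ext z
      simp only [Set.mem_singleton_iff, Set.mem_preimage]
      constructor
      · rintro rfl
        exact hQ
      · intro hz
        exact j.isOpenEmbedding.injective (hz.trans hQ.symm)
    rw [h1]
    exact hw.preimage j.continuous
  have hQm : Q.asIdeal.IsMaximal := (PrimeSpectrum.isClosed_singleton_iff_isMaximal Q).1 hQc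
  have hQA : Q.asIdeal.comap (algebraMap A Γ(P, W)) = maximalIdeal A := by
    have h1 : (j ≫ f) Q = closedPoint A := by
      rw [Scheme.Hom.comp_apply, hQ, hf]
    rw [← hφ] at h1
    exact congrArg PrimeSpectrum.asIdeal h1
  obtain ⟨ψ, hψ⟩ := exists_alg A Q.asIdeal hQA
  refine ⟨Spec.map (CommRingCat.ofHom ψ.toRingHom) ≫ j, ?_, ?_⟩
  · rw [Category.assoc, ← hφ, ← Spec.map_comp, ← Spec.map_id]
    congr 1
    ext v
    exact ψ.commutes v
  · rw [Scheme.Hom.comp_apply, ← hQ]
    congr 1
    exact PrimeSpectrum.ext hψ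

theorem isDominant_of_isFractionRing {V F : Type u} [CommRing V] [IsDomain V] [Field F] [Algebra V F]
    [IsFractionRing V F] : IsDominant (Spec.map (CommRingCat.ofHom (algebraMap V F))) := by
  refine ⟨?_⟩
  change DenseRange (PrimeSpectrum.comap (algebraMap V F))
  rw [PrimeSpectrum.denseRange_comap_iff_ker_le_nilRadical,
    (RingHom.injective_iff_ker_eq_bot _).1 (IsFractionRing.injective V F)]
  exact bot_le

theorem stalk_inst (V : Type u) [CommRing V] [IsDomain V] [ValuationRing V] [IsAlgClosed (FractionRing V)]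
    (y : Spec (CommRingCat.of V)) : ∃ (_ : IsDomain ((Spec (CommRingCat.of V)).presheaf.stalk y))
      (_ : ValuationRing ((Spec (CommRingCat.of V)).presheaf.stalk y))
      (k : Spec (CommRingCat.of (FractionRing V)) ⟶ Spec ((Spec (CommRingCat.of V)).presheaf.stalk y)),
      IsAlgClosed (FractionRing ((Spec (CommRingCat.of V)).presheaf.stalk y)) ∧ IsDominant k ∧
        k ≫ (Spec (CommRingCat.of V)).fromSpecStalk y =
          Spec.map (CommRingCat.ofHom (algebraMap V (FractionRing V))) := by
  have hy : y.asIdeal.IsPrime := y.isPrime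
  let A := (Spec (CommRingCat.of V)).presheaf.stalk y
  let _ : Algebra V A := StructureSheaf.stalkAlgebra V y
  have h1 : IsLocalization.AtPrime A y.asIdeal := StructureSheaf.IsLocalization.to_stalk V y
  have h2 : IsDomain A := IsLocalization.isDomain_of_atPrime _ y.asIdeal
  have h3 : ValuationRing A := K122.ValBase.valuationRing_of_isLocalization V A y.asIdeal
  have hle : ∀ s : y.asIdeal.primeCompl, IsUnit (algebraMap V (FractionRing V) s) := by
    intro s
    have : (s : V) ≠ 0 := fun h => s.2 (by rw [h]; exact y.asIdeal.zero_mem)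
    exact (IsUnit.mk0 _ (by simpa using this))
  let _ : Algebra A (FractionRing V) := (IsLocalization.lift (M := y.asIdeal.primeCompl) hle).toAlgebra
  have h4 : IsScalarTower V A (FractionRing V) := IsScalarTower.of_algebraMap_eq' (by
    rw [RingHom.algebraMap_toAlgebra]
    exact (IsLocalization.lift_comp _).symm)
  have h5 : IsFractionRing A (FractionRing V) :=
    IsFractionRing.isFractionRing_of_isDomain_of_isLocalization y.asIdeal.primeCompl A (FractionRing V)
  refine ⟨h2, h3, Spec.map (CommRingCat.ofHom (algebraMap A (FractionRing V))),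
    IsAlgClosed.of_ringEquiv (FractionRing V) (FractionRing A)
      (FractionRing.algEquiv A (FractionRing V)).toRingEquiv.symm,
    @isDominant_of_isFractionRing A (FractionRing V) _ h2 _ _ h5, ?_⟩
  rw [IsScalarTower.algebraMap_eq V A (FractionRing V), CommRingCat.ofHom_comp, Spec.map_comp]
  congr 1
  exact Spec.fromSpecStalk_eq' _ _

theorem exists_local_section {V : Type u} [CommRing V] [IsDomain V] [ValuationRing V] [IsAlgClosed (FractionRing V)]
    {W : Scheme.{u}} (f : W ⟶ Spec (CommRingCat.of V)) [Flat f] [LocallyOfFiniteType f] (y : Spec (CommRingCat.of V))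
    (e : f.fiber y) (he : IsClosed ({e} : Set ↥(f.fiber y))) :
    ∃ s : Spec ((Spec (CommRingCat.of V)).presheaf.stalk y) ⟶ W, s ≫ f = (Spec (CommRingCat.of V)).fromSpecStalk y ∧
      s (closedPoint _) = f.fiberι y e := by
  obtain ⟨h1, h2, -, h3, -, -⟩ := stalk_inst V y
  let S := Spec (CommRingCat.of V)
  let c : Spec (S.residueField y) ⟶ Spec (S.presheaf.stalk y) := Spec.map (S.residue y)
  have hc : c ≫ S.fromSpecStalk y = S.fromSpecResidueField y := rfl
  let g := pullback.snd f (S.fromSpecStalk y)
  have hp : IsPullback (f.fiberι y) (f.fiberToSpecResidueField y) f (c ≫ S.fromSpecStalk y) :=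
    IsPullback.of_hasPullback _ _
  let i : f.fiber y ⟶ pullback f (S.fromSpecStalk y) :=
    pullback.lift (f.fiberι y) (f.fiberToSpecResidueField y ≫ c) (by rw [hp.w, Category.assoc])
  have hi : IsPullback i (f.fiberToSpecResidueField y) g c := by
    refine IsPullback.of_right ?_ ?_ (IsPullback.of_hasPullback f (S.fromSpecStalk y))
    · rw [pullback.lift_fst]; exact hp
    · rw [pullback.lift_snd]
  have hcc : IsClosedImmersion c := IsClosedImmersion.spec_of_surjective _ (IsLocalRing.residue_surjective)
  have hic : IsClosedImmersion i := MorphismProperty.of_isPullback (P := @IsClosedImmersion) hi.flip hcc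
  have hw : IsClosed ({i e} : Set ↥(pullback f (S.fromSpecStalk y))) := by
    rw [← Set.image_singleton]
    exact hic.isClosedEmbedding.isClosedMap _ he
  have hgw : g (i e) = closedPoint _ := by
    rw [← Scheme.Hom.comp_apply, hi.w, Scheme.Hom.comp_apply]
    have h5 : f.fiberToSpecResidueField y e = closedPoint (S.residueField y) := Subsingleton.elim _ _
    rw [h5]
    exact IsLocalRing.comap_closedPoint (IsLocalRing.residue (S.presheaf.stalk y))
  obtain ⟨s, hs1, hs2⟩ := exists_local g (i e) hw hgw
  refine ⟨s ≫ pullback.fst f _, ?_, ?_⟩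
  · rw [Category.assoc, pullback.condition, reassoc_of% hs1]
  · rw [Scheme.Hom.comp_apply, hs2, ← Scheme.Hom.comp_apply, pullback.lift_fst]

theorem exists_section {V : Type u} [CommRing V] [IsDomain V] [ValuationRing V] [IsAlgClosed (FractionRing V)]
    {W : Scheme.{u}} (f : W ⟶ Spec (CommRingCat.of V)) [Flat f] [IsProper f] (y : Spec (CommRingCat.of V))
    (e : f.fiber y) (he : IsClosed ({e} : Set ↥(f.fiber y))) :
    ∃ s : Spec (CommRingCat.of V) ⟶ W, s ≫ f = 𝟙 _ ∧ s y = f.fiberι y e := by
  obtain ⟨t, ht, hte⟩ := exists_local_section f y e he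
  obtain ⟨h1, h2, k, h3, hkd, hk⟩ := stalk_inst V y
  let S := Spec (CommRingCat.of V)
  have hex : (ValuativeCriterion.Existence ⊓ @QuasiCompact) f :=
    UniversallyClosed.eq_valuativeCriterion ▸ (inferInstance : UniversallyClosed f)
  have hsq : CommSq (k ≫ t) (Spec.map (CommRingCat.ofHom (algebraMap V (FractionRing V)))) f (𝟙 S) :=
    ⟨by rw [Category.assoc, ht, Category.comp_id, hk]⟩
  let D : ValuativeCommSq f := { R := V, K := FractionRing V, i₁ := k ≫ t, i₂ := 𝟙 S, commSq := hsq }
  have hl : hsq.HasLift := hex.1 D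
  let s : S ⟶ W := hsq.lift
  have hs1 : s ≫ f = 𝟙 S := hsq.fac_right
  have hs2 : Spec.map (CommRingCat.ofHom (algebraMap V (FractionRing V))) ≫ s = k ≫ t := hsq.fac_left
  have hst : S.fromSpecStalk y ≫ s = t := by
    refine ext_of_isDominant_of_isSeparated f ?_ k ?_
    · rw [Category.assoc, hs1, Category.comp_id, ht]
    · rw [← Category.assoc, hk]
      exact hs2
  refine ⟨s, hs1, ?_⟩
  rw [← hte, ← hst, Scheme.Hom.comp_apply, Scheme.fromSpecStalk_closedPoint]

/-- A component of dimension one of a scheme locally of finite type over a field meets every open containing its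
generic point in infinitely many closed points. -/
theorem infinite_closed {Z : Scheme.{u}} [NoetherianSpace Z] [JacobsonSpace Z] {E : Set Z} (hE : E ∈ irreducibleComponents (Z : Type u))
    (hd : topologicalKrullDim E = 1) (U : Z.Opens) (hU : Dense (U : Set Z)) :
    {e : Z | e ∈ E ∧ e ∈ U ∧ IsClosed ({e} : Set Z)}.Infinite := by
  intro hfin
  set T := {e : Z | e ∈ E ∧ e ∈ U ∧ IsClosed ({e} : Set Z)} with hT
  have hEc : IsClosed E := isClosed_of_mem_irreducibleComponents E hE
  have hTc : IsClosed T := by
    rw [← Set.biUnion_of_singleton T]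
    exact hfin.isClosed_biUnion fun e he => he.2.2
  -- the generic point of `E` is in `U`
  obtain ⟨ξ, hξ⟩ := QuasiSober.sober hE.1 hEc
  have hξE : ξ ∈ E := hξ.mem
  have hξU : ξ ∈ U := by
    obtain ⟨o, ho, hne, hoE⟩ := NoetherianSpace.exists_isOpen_nonempty_subset_irreducibleComponent E hE
    obtain ⟨z, hzo, hzU⟩ := hU.inter_open_nonempty o ho hne
    exact (hξ.specializes (hoE hzo)).mem_open U.isOpen hzU
  have hEU : (E ∩ U : Set Z) ⊆ T := by
    by_contra hcon
    rw [Set.not_subset] at hcon
    obtain ⟨z, hz, hzT⟩ := hcon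
    have h1 : IsLocallyClosed ((E ∩ U) ∩ Tᶜ : Set Z) :=
      (hEc.isLocallyClosed.inter U.isOpen.isLocallyClosed).inter hTc.isOpen_compl.isLocallyClosed
    have h2 := jacobsonSpace_iff_locallyClosed.1 (inferInstance : JacobsonSpace Z) ((E ∩ U) ∩ Tᶜ : Set Z)
      ⟨z, hz, hzT⟩ h1
    obtain ⟨e, he, he4⟩ := h2
    exact he.2 ⟨he.1.1, he.1.2, he4⟩
  have h1 : IsClosed ({ξ} : Set Z) := (hEU ⟨hξE, hξU⟩).2.2
  have h2 : E = {ξ} := by
    rw [← hξ.def, h1.closure_eq]
  rw [h2] at hd
  have h3 : topologicalKrullDim ({ξ} : Set Z) ≤ 0 := topologicalKrullDim_zero_of_discreteTopology _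
  rw [hd] at h3
  exact absurd h3 (by decide)

theorem main : K122.Plan2.Sections.{u} := by
  intro V _ _ _ _ _ W pW _ _ _ hdim hred y E hE n
  have hac : IsAlgClosed ((Spec (CommRingCat.of V)).residueField y) := K122.ValBase.isAlgClosed_residueField V y
  have hpf : PerfectField ((Spec (CommRingCat.of V)).residueField y) := inferInstance
  have hft : LocallyOfFiniteType (pW.fiberToSpecResidueField y) := inferInstance
  have hln : IsLocallyNoetherian (pW.fiber y) :=
    LocallyOfFiniteType.isLocallyNoetherian (pW.fiberToSpecResidueField y)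
  have hcp : CompactSpace ↥(pW.fiber y) := inferInstance
  have hnoeth : IsNoetherian (pW.fiber y) := { }
  have hr : AlgebraicGeometry.IsReduced (pW.fiber y) :=
    (K263.EtaRed.red_iff pW).1 hred ((Spec (CommRingCat.of V)).residueField y)
      ((Spec (CommRingCat.of V)).fromSpecResidueField y)
  have hdense : Dense ((pW.fiberToSpecResidueField y).smoothLocus : Set ↥(pW.fiber y)) :=
    Scheme.Hom.dense_smoothLocus_of_perfectField (K := (Spec (CommRingCat.of V)).residueField y) _
  have hinf := infinite_closed hE (hdim y E hE) (pW.fiberToSpecResidueField y).smoothLocus hdense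
  let ν := hinf.natEmbedding
  choose ω h1 h2 using fun i : Fin n => exists_section pW y (ν i).1 (ν i).2.2.2
  refine ⟨ω, h1, ?_, fun i => ⟨⟨(ν i).1, (ν i).2.1, (h2 i).symm⟩, ?_⟩⟩
  · intro i j hij
    have h3 : pW.fiberι y (ν i).1 = pW.fiberι y (ν j).1 := (h2 i).symm.trans (hij.trans (h2 j))
    have h4 : (ν i).1 = (ν j).1 := (pW.fiberι y).injective h3
    exact Fin.ext (ν.injective (Subtype.ext h4))
  · have := (K132.GeomRkOpen.mem_smoothLocus_fiber_iff pW y (ν i).1).1 (ν i).2.2.1
    rw [← h2 i] at this
    exact (K761.Ends.mem_smoothLocus_iff pW _).1 this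

end K777.Sect
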